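import Groth.Agent.RedSub.H660.Iwasawa
import Groth.Agent.RedSub.H638.PinFull
import Groth.Agent.Sga3B.Par.LevFin622
import Groth.Agent.Sga3B.SplitFin885
import Groth.Agent.Sga3B.SplitRedField415
import Groth.Agent.Sga3B.BaseZ
import Groth.Agent.Etbase.HensSection
import Groth.Agent.Etbase.NormalSepClosed

/-!
# The Iwasawa decomposition `G(K) = G(O) P(K)`, scheme form

`O` a valuation ring with algebraically closed fraction field `K`, `G` a reductive group over any
scheme `S`, `p : P ⟶ G` a parabolic subgroup, `c : Spec O ⟶ S`.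

* `exists_fac_of_etale`: maps from the spectrum of a strictly henselian ring lift to étale
  neighbourhoods of the image of the closed point;
* `iwasawa`: every `g ∈ G(K)` over `c` is a product of a point of `G(O)` and a point of `P(K)`.
-/

set_option autoImplicit false
universe u

open CategoryTheory MonoidalCategory CartesianMonoidalCategory MonObj GrpObj AlgebraicGeometry Limits

namespace Groth.Agent.RedSub.H671.IwaPt

open Groth.Agent.Sga3B Groth.Agent.Sga3B.Cell Groth.Agent.Sga3B.Parab Groth.Agent.Sga3B.PinMod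
open Groth.Agent.Sga3B.GaPts Groth.Agent.Sga3B.DSPts
open Groth.Agent.Sga3B.Word (posP)

section Comb

variable {idx M : Type} [Finite idx] [AddCommGroup M] [Module.Finite ℤ M]

/-- a base adapted to a coweight -/
theorem exists_base (P : RootPairing idx ℤ M (Module.Dual ℤ M)) [P.IsReduced] (x : M →+ ℤ) :
    ∃ b : P.Base, ∀ a, b.IsPos a → 0 ≤ x (P.root a) := by
  classical
  have : Fintype idx := Fintype.ofFinite idx
  obtain ⟨f, hf⟩ := BaseZ.exists_functional P
  let N : ℤ := 1 + ∑ a, |f (P.root a)|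
  have hN : ∀ a, |f (P.root a)| < N := fun a => by
    have := Finset.single_le_sum (f := fun a => |f (P.root a)|) (fun i _ => abs_nonneg _)
      (Finset.mem_univ a)
    simp only [N]
    omega
  have key : ∀ a, x (P.root a) < 0 → N * x (P.root a) + f (P.root a) < 0 := by
    intro a ha
    have h1 := hN a
    have h2 := le_abs_self (f (P.root a))
    have h3 : 0 < N := lt_of_le_of_lt (abs_nonneg _) h1
    nlinarith
  have key' : ∀ a, 0 < x (P.root a) → 0 < N * x (P.root a) + f (P.root a) := by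
    intro a ha
    have h1 := hN a
    have h2 := neg_abs_le (f (P.root a))
    have h3 : 0 < N := lt_of_le_of_lt (abs_nonneg _) h1
    nlinarith
  let g : M →+ ℤ := N • x + f
  have hg : ∀ a, g (P.root a) = N * x (P.root a) + f (P.root a) := fun a => by simp [g]
  obtain ⟨b, hb⟩ := BaseZ.exists_base_isPos P g (by
    intro a h
    rw [hg] at h
    rcases lt_trichotomy (x (P.root a)) 0 with h1 | h1 | h1
    · have := key a h1; omega
    · rw [h1, mul_zero, zero_add] at h
      exact hf a h
    · have := key' a h1; omega)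
  refine ⟨b, fun a ha => ?_⟩
  by_contra h
  have h1 := (hb a).1 ha
  rw [hg] at h1
  have := key a (not_le.1 h)
  omega

end Comb

/-- Maps from the spectrum of a strictly henselian ring lift to étale neighbourhoods of the image
of the closed point. -/
theorem exists_fac_of_etale {S S' : Scheme.{u}} (f : S' ⟶ S) [Etale f] {O : Type u} [CommRing O]
    [HenselianLocalRing O] [IsSepClosed (IsLocalRing.ResidueField O)]
    (c : Spec (CommRingCat.of O) ⟶ S) (s' : S') (hs' : f s' = c (IsLocalRing.closedPoint O)) :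
    ∃ σ : Spec (CommRingCat.of O) ⟶ S', σ ≫ f = c := by
  let r : Spec (CommRingCat.of (IsLocalRing.ResidueField O)) ⟶ Spec (CommRingCat.of O) :=
    Spec.map (CommRingCat.ofHom (IsLocalRing.residue O))
  have hr : r default = IsLocalRing.closedPoint O := by
    rw [Subsingleton.elim (default : Spec (CommRingCat.of (IsLocalRing.ResidueField O)))
      (IsLocalRing.closedPoint (IsLocalRing.ResidueField O))]
    exact IsLocalRing.comap_closedPoint (IsLocalRing.residue O)
  obtain ⟨l, hl, -⟩ := Scheme.exists_fac_of_etale_of_isSepClosed f (r ≫ c) s' (by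
    rw [hs', Scheme.Hom.comp_apply, hr])
  obtain ⟨s, hs, -⟩ := Etbase.HensSection.exists_section (pullback.snd f c)
    (pullback.lift l r hl) (pullback.lift_snd _ _ _)
  refine ⟨s ≫ pullback.fst f c, ?_⟩
  rw [Category.assoc, pullback.condition, ← Category.assoc, hs, Category.id_comp]

section Root

variable {S : Scheme.{u}} {G : Over S} [GrpObj G] (D : Red.SplitRed G)

/-- root groups of nonnegative weight lie in `P_G(λ)` -/
theorem ptP_root (y : Module.Dual ℤ D.M) (a : D.idx) (h : 0 ≤ y (D.P.root a)) {X : Over S}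
    (x : X ⟶ Red.Ga S) : PtP (Par.coch D y) (x ≫ D.u a) := by
  intro C _ c z
  have h1 := Par.limEx_root D y a (Red.gaFn (z ≫ x)) h (C := C) (c := c)
  rwa [gaPt_gaFn, Category.assoc] at h1

end Root

section Main

/-- the points of `G` coming from a subgroup -/
def ptsOf {S : Scheme.{u}} {G P : Over S} [GrpObj G] [GrpObj P] (p : P ⟶ G) [IsMonHom p]
    (X : Over S) : Subgroup (X ⟶ G) where
  carrier := {g | ∃ y : X ⟶ P, y ≫ p = g}
  one_mem' := ⟨1, MonObj.one_comp p⟩
  mul_mem' := by
    rintro _ _ ⟨y, rfl⟩ ⟨z, rfl⟩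
    exact ⟨y * z, MonObj.mul_comp y z p⟩
  inv_mem' := by
    rintro _ ⟨y, rfl⟩
    exact ⟨y⁻¹, GrpObj.inv_comp y p⟩

lemma mem_ptsOf {S : Scheme.{u}} {G P : Over S} [GrpObj G] [GrpObj P] {p : P ⟶ G} [IsMonHom p]
    {X : Over S} {g : X ⟶ G} : g ∈ ptsOf p X ↔ ∃ y : X ⟶ P, y ≫ p = g := Iff.rfl

variable {S : Scheme.{u}} {G P : Over S} [GrpObj G] [GrpObj P]
  {O K : Type u} [CommRing O] [IsDomain O] [ValuationRing O] [Field K] [Algebra O K]
  [IsFractionRing O K] [IsAlgClosed K]

variable (K) in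
/-- the map `Spec K ⟶ Spec O` over `S` -/
noncomputable abbrev genPt (c : Spec (CommRingCat.of O) ⟶ S) :
    Over.mk (Spec.map (CommRingCat.ofHom (algebraMap O K)) ≫ c) ⟶ Over.mk c :=
  Over.homMk (Spec.map (CommRingCat.ofHom (algebraMap O K))) rfl

theorem iwasawa (hG : Red.IsReductive G) (p : P ⟶ G) (hp : Red.IsParabolic p)
    (c : Spec (CommRingCat.of O) ⟶ S)
    (g : Over.mk (Spec.map (CommRingCat.ofHom (algebraMap O K)) ≫ c) ⟶ G) :
    ∃ (g₀ : Over.mk c ⟶ G) (y : Over.mk (Spec.map (CommRingCat.ofHom (algebraMap O K)) ≫ c) ⟶ P),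
      g = (genPt K c ≫ g₀) * (y ≫ p) := by
  have hmp : IsMonHom p := hp.1
  have hh : HenselianLocalRing O := Etbase.NormalSepClosed.henselianLocalRing (R := O) K
  have hsc : IsSepClosed (IsLocalRing.ResidueField O) :=
    Etbase.NormalSepClosed.isSepClosed_residueField (R := O) K
  obtain ⟨S', f, hf, ⟨s', hs'⟩, D, t, x, ht, hx⟩ := PcS150.pcS Uncond688.pcPStmt
    SplitFin885.splitTStmt hG p hp (c (IsLocalRing.closedPoint O))
  obtain ⟨σ, hσ⟩ := exists_fac_of_etale f c s' hs'
  have hne : Nonempty S' := ⟨s'⟩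
  have hred : D.P.IsReduced := SplitReduced415.isReduced D
  obtain ⟨b, hb⟩ := exists_base D.P x.toAddMonoidHom
  let Pn : Red.Pinning (Red.bc f G) := { D with base := b }
  obtain ⟨m, ε, -, hm⟩ := H638.PinFull.exists_pinModel_full Pn O σ
  subst hσ
  let iK : Over.mk (Spec.map (CommRingCat.ofHom (algebraMap O K)) ≫ σ ≫ f) ≅
      (Over.map f).obj (tB σ K) := Over.isoMk (Iso.refl _) (by
    change 𝟙 _ ≫ (Spec.map (CommRingCat.ofHom (algebraMap O K)) ≫ σ) ≫ f = _
    rw [Category.id_comp, Category.assoc]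
    rfl)
  let iO : Over.mk (σ ≫ f) ≅ (Over.map f).obj (tB σ O) := Over.isoMk (Iso.refl _) (by
    change 𝟙 _ ≫ (Spec.map (CommRingCat.ofHom (RingHom.id O)) ≫ σ) ≫ f = σ ≫ f
    rw [Category.id_comp, Category.assoc]
    change Spec.map (𝟙 (CommRingCat.of O)) ≫ σ ≫ f = _
    rw [Spec.map_id, Category.id_comp])
  let p' := (Over.pullback f).map p
  obtain ⟨g₀, xx, tt, h⟩ := H660.Iwasawa.iwasawa (V := O) m.E
    ((m.pts K).symm ((DynBc998.dnI f iK).symm g))
  have key : m.pts K (posP m.E xx * m.E.i K tt) ∈ ptsOf p' (tB σ K) := by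
    rw [map_mul]
    refine (ptsOf p' (tB σ K)).mul_mem ?_ ?_
    · rw [posP, map_list_prod]
      refine Subgroup.list_prod_mem _ fun z hz => ?_
      rw [List.map_map, List.mem_map] at hz
      obtain ⟨a, ha, rfl⟩ := hz
      rw [Function.comp_apply, hm]
      exact (hx.iff_ptP _ _).2 (ptP_root D x a (hb a ((mem_posList b).1 ha)) _)
    · rw [m.pts_i]
      refine ⟨dsEquiv (tB σ K) D.M (chΓ σ tt) ≫ D.split.inv.hom.hom ≫ t, ?_⟩
      rw [Category.assoc, Category.assoc]
      change _ ≫ _ ≫ t ≫ (Over.pullback f).map p = _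
      rw [ht]
  obtain ⟨y', hy'⟩ := key
  have hdn : ∀ (z : tB σ K ⟶ Red.bc f P), DynBc998.dnI f iK (z ≫ p') = DynBc998.dnI f iK z ≫ p := by
    intro z
    ext1
    rw [DynBc998.dnI_left, Over.comp_left, Over.comp_left, DynBc998.dnI_left]
    have h1 : p'.left ≫ pullback.fst G.hom f = pullback.fst P.hom f ≫ p.left := by
      simp only [p', Over.pullback_map_left]
      exact pullback.lift_fst _ _ _
    rw [Category.assoc, Category.assoc, Category.assoc, h1]
  refine ⟨DynBc998.dnI f iO (m.pts O g₀), DynBc998.dnI f iK y', ?_⟩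
  have h2 : (DynBc998.dnI f iK).symm g =
      (tMap σ (H660.Iwasawa.inc O O K) ≫ m.pts O g₀) * (y' ≫ p') := by
    rw [hy', ← (m.pts K).apply_symm_apply ((DynBc998.dnI f iK).symm g), h, map_mul, m.pts_nat]
  have h3 : g = DynBc998.dnI f iK ((tMap σ (H660.Iwasawa.inc O O K) ≫ m.pts O g₀) * (y' ≫ p')) := by
    rw [← h2, MulEquiv.apply_symm_apply]
  rw [h3, map_mul, hdn]
  congr 1

end Main

end Groth.Agent.RedSub.H671.IwaPt
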