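import Groth.Agent.RedSub.H671.IwaPt
import Groth.Agent.Sga3B.Parab.OppS172
import Groth.Agent.Sga3B.Parab.UAff
import Groth.Agent.Sga3B.Parab.DynCell998
import Groth.Agent.Sga3B.Parab.DynBc998
import Groth.Agent.Sga3B.RedBcAny636

/-!
# From the residue fields to the covering `G = ⋃ u P' P`

* `exists_val`: a valuation ring of a field `K` dominating a local ring at a maximal ideal of `A`,
  for a ring map `A → K`;
* `exists_lift_of_isAffRet`: points of a retract of an affine space lift along surjections;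
* `KeyAt k`: the covering property of `G(K)` by the translates of the big cell by `k`-points of the
  unipotent radical, for reductive groups over the field `k`;
* `main`: from `KeyAt` for the residue fields of `A` to all points of a reductive group over `A`.
-/

set_option autoImplicit false
universe u

open CategoryTheory MonoidalCategory CartesianMonoidalCategory MonObj GrpObj AlgebraicGeometry Limits

namespace Groth.Agent.RedSub.H671.KeyGlue

open Groth.Agent.Sga3B Groth.Agent.Sga3B.Parab Groth.Agent.Sga3B.Parab.SecThrough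
open Groth.Agent.Books.AffBridge
open IwaPt DynBc998 OppS172 UAff

/-- a valuation ring dominating a local ring at a closed point -/
theorem exists_val {A K : Type u} [CommRing A] [Field K] (φ : A →+* K) :
    ∃ (O : ValuationSubring K) (ψ : A →+* O), (algebraMap O K).comp ψ = φ ∧
      ((IsLocalRing.maximalIdeal O).comap ψ).IsMaximal := by
  obtain ⟨m, hm, hle⟩ := Ideal.exists_le_maximal (RingHom.ker φ) (RingHom.ker_ne_top φ)
  let F : Localization.AtPrime m →+* K := IsLocalization.lift (M := m.primeCompl) (g := φ) (by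
    intro a
    rw [isUnit_iff_ne_zero]
    intro h
    exact a.2 (hle h))
  obtain ⟨O, h, hloc⟩ := IsLocalRing.exists_factor_valuationRing F
  have h2 : (IsLocalRing.maximalIdeal O).comap
      ((F.codRestrict O.toSubring h).comp (algebraMap A (Localization.AtPrime m))) = m := by
    rw [← Ideal.comap_comap]
    have h3 : (IsLocalRing.maximalIdeal O).comap (F.codRestrict O.toSubring h) =
      IsLocalRing.maximalIdeal _ := IsLocalRing.maximalIdeal_comap (S := O) _
    rw [h3]
    exact Localization.AtPrime.under_maximalIdeal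
  refine ⟨O, (F.codRestrict O.toSubring h).comp (algebraMap A (Localization.AtPrime m)), ?_, ?_⟩
  · refine RingHom.ext fun a => ?_
    exact IsLocalization.lift_eq (M := m.primeCompl) _ a
  · rwa [h2]

/-- points of a retract of an affine space lift along surjections of the base ring -/
theorem exists_lift_of_isAffRet {A : Type u} [CommRing A] {X : Over (Spec (CommRingCat.of A))}
    (hX : IsAffRet X) {k : Type u} [CommRing k] (π : A →+* k) (hπ : Function.Surjective π)
    (a : Over.mk (Spec.map (CommRingCat.ofHom π)) ⟶ X) : ∃ s : 𝟙_ _ ⟶ X, a = toUnit _ ≫ s := by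
  obtain ⟨B, _, _, ⟨σ, _, i, r, hr⟩, ⟨e⟩⟩ := hX
  let _ : Algebra A k := π.toAlgebra
  have hπ' : ∀ x, ∃ y : A, algebraMap A k y = x := hπ
  let a' : SpecOver A k ⟶ SpecOver A B := a ≫ e.hom
  let φ : B →ₐ[A] k := specPreimage A a'
  have hφ : specMap A φ = a' := specMap_specPreimage A a'
  choose t ht using fun s : σ => hπ' ((φ.comp r) (MvPolynomial.X s))
  let χ : B →ₐ[A] A := (MvPolynomial.aeval t).comp i
  have h1 : (Algebra.ofId A k).comp (MvPolynomial.aeval t) = φ.comp r := by
    ext s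
    simpa using ht s
  have h2 : (Algebra.ofId A k).comp χ = φ := by
    have : (Algebra.ofId A k).comp χ = ((Algebra.ofId A k).comp (MvPolynomial.aeval t)).comp i := rfl
    rw [this, h1]
    change φ.comp (r.comp i) = φ
    rw [hr, AlgHom.comp_id]
  have h3 : IsIso (toUnit (SpecOver A A)).left := by
    have h4 : (toUnit (SpecOver A A)).left = (SpecOver A A).hom := by
      have := Over.w (toUnit (SpecOver A A))
      exact (Category.comp_id _).symm.trans this
    rw [h4]
    change IsIso (Spec.map (CommRingCat.ofHom (RingHom.id A)))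
    change IsIso (Spec.map (𝟙 (CommRingCat.of A)))
    infer_instance
  have h5 : IsIso (toUnit (SpecOver A A)) :=
    isIso_of_reflects_iso _ (Over.forget _)
  refine ⟨inv (toUnit (SpecOver A A)) ≫ specMap A χ ≫ e.inv, ?_⟩
  have h6 : toUnit (SpecOver A k) = specMap A (Algebra.ofId A k) ≫ toUnit (SpecOver A A) :=
    toUnit_unique _ _
  have h7 : a = specMap A φ ≫ e.inv := by
    rw [hφ]
    simp [a']
  change a = toUnit (SpecOver A k) ≫ _
  rw [h6, Category.assoc, IsIso.hom_inv_id_assoc, ← Category.assoc, ← specMap_comp, h2, h7]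

/-- The covering property over the field `k`: every geometric point of `G` lies in a translate of
the big cell `U_G(-λ) P_G(λ)` by a rational point of `U_G(λ)`. -/
def KeyAt (k : Type u) [Field k] : Prop :=
  ∀ (G P U V : Over (Spec (CommRingCat.of k))) [GrpObj G] [GrpObj P] [GrpObj U] [GrpObj V]
    (_ : Red.IsReductive G) (lam : Red.Gm (Spec (CommRingCat.of k)) ⟶ G) [IsMonHom lam]
    (p : P ⟶ G) (u : U ⟶ G) (v : V ⟶ G), IsDynP lam p → IsDynU lam u → IsDynU (negLam lam) v →
    ∀ (K : Type u) [Field K] [IsAlgClosed K] (x : Spec (CommRingCat.of K) ⟶ Spec (CommRingCat.of k))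
      (g : Over.mk x ⟶ G), ∃ (a : 𝟙_ _ ⟶ U) (b : Over.mk x ⟶ V) (y : Over.mk x ⟶ P),
      g = (toUnit _ ≫ a ≫ u) * (b ≫ v) * (y ≫ p)

/-- a geometric point of a scheme over `Spec A`, seen over a valuation ring -/
theorem exists_geom {A : Type u} [CommRing A] (G : Over (Spec (CommRingCat.of A))) (x : G.left) :
    ∃ (K : Type u) (_ : Field K) (_ : IsAlgClosed K) (O : ValuationSubring K) (ψ : A →+* O),
      ((IsLocalRing.maximalIdeal O).comap ψ).IsMaximal ∧
      ∃ g : Over.mk (Spec.map (CommRingCat.ofHom (algebraMap O K)) ≫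
        Spec.map (CommRingCat.ofHom ψ)) ⟶ G, x ∈ Set.range g.left := by
  let K := AlgebraicClosure (G.left.residueField x)
  let gx : Spec (CommRingCat.of K) ⟶ G.left :=
    Spec.map (CommRingCat.ofHom (algebraMap (G.left.residueField x) K)) ≫
      G.left.fromSpecResidueField x
  let φ : A →+* K := (Spec.preimage (gx ≫ G.hom)).hom
  have hφ : Spec.map (CommRingCat.ofHom φ) = gx ≫ G.hom := Spec.map_preimage _
  obtain ⟨O, ψ, h, hm⟩ := exists_val φ
  have h1 : Spec.map (CommRingCat.ofHom (algebraMap O K)) ≫ Spec.map (CommRingCat.ofHom ψ) =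
      gx ≫ G.hom := by
    rw [← Spec.map_comp, ← hφ, ← h]
    rfl
  refine ⟨K, inferInstance, inferInstance, O, ψ, hm, Over.homMk gx h1.symm, ?_⟩
  refine ⟨IsLocalRing.closedPoint K, ?_⟩
  change gx (IsLocalRing.closedPoint K) = x
  rw [Scheme.Hom.comp_apply]
  exact Scheme.fromSpecResidueField_apply x _

/-- the closed point of the valuation ring, seen over the residue field of the base -/
theorem exists_closed {A O : Type u} [CommRing A] [CommRing O] [IsLocalRing O] (ψ : A →+* O)
    (hm : ((IsLocalRing.maximalIdeal O).comap ψ).IsMaximal) :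
    ∃ (k : Type u) (_ : Field k) (π : A →+* k) (_ : Function.Surjective π) (K : Type u)
      (_ : Field K) (_ : IsAlgClosed K) (θ : k →+* K) (χ : O →+* K),
      IsLocalHom χ ∧ χ.comp ψ = θ.comp π := by
  let m := (IsLocalRing.maximalIdeal O).comap ψ
  obtain ⟨k, _, π, hπ, hker⟩ : ∃ (k : Type u) (_ : Field k) (π : A →+* k),
      Function.Surjective π ∧ RingHom.ker π = m :=
    ⟨A ⧸ m, Ideal.Quotient.field m, Ideal.Quotient.mk m, Ideal.Quotient.mk_surjective, Ideal.mk_ker⟩
  let K := AlgebraicClosure (IsLocalRing.ResidueField O)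
  let χ : O →+* K := (algebraMap (IsLocalRing.ResidueField O) K).comp (IsLocalRing.residue O)
  have h1 : RingHom.ker π ≤ RingHom.ker (χ.comp ψ) := by
    rw [hker]
    intro a ha
    have ha' : ψ a ∈ IsLocalRing.maximalIdeal O := ha
    rw [RingHom.mem_ker, RingHom.comp_apply, RingHom.comp_apply,
      (IsLocalRing.residue_eq_zero_iff _).2 ha', map_zero]
  exact ⟨k, inferInstance, π, hπ, K, inferInstance, inferInstance,
    RingHom.liftOfSurjective π hπ ⟨χ.comp ψ, h1⟩, χ, inferInstance,
    (RingHom.liftOfSurjective_comp π hπ ⟨χ.comp ψ, h1⟩).symm⟩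

lemma dnI_map {S S' : Scheme.{u}} (f : S' ⟶ S) {P G : Over S} [GrpObj G] [GrpObj P] (p : P ⟶ G)
    {T : Over S'} {T' : Over S} (i : T' ≅ (Over.map f).obj T) (z : T ⟶ Red.bc f P) :
    dnI f i (z ≫ (Over.pullback f).map p) = dnI f i z ≫ p := by
  ext1
  rw [dnI_left, Over.comp_left, Over.comp_left, dnI_left]
  have h1 : ((Over.pullback f).map p).left ≫ pullback.fst G.hom f =
      pullback.fst P.hom f ≫ p.left := by
    simp only [Over.pullback_map_left]
    exact pullback.lift_fst _ _ _
  rw [Category.assoc, Category.assoc, Category.assoc, h1]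

section Key

variable {A : Type u} [CommRing A] {G P U V : Over (Spec (CommRingCat.of A))} [GrpObj G] [GrpObj P]
  [GrpObj U] [GrpObj V] {lam : Red.Gm (Spec (CommRingCat.of A)) ⟶ G} [IsMonHom lam]
  {p : P ⟶ G} {u : U ⟶ G} {v : V ⟶ G}

/-- `KeyAt` at a closed point, with the rational point of the unipotent radical lifted to a
section. -/
theorem exists_section (hG : Red.IsReductive G) (hp : IsDynP lam p) (hu : IsDynU lam u)
    (hv : IsDynU (negLam lam) v) {k K : Type u} [Field k] [Field K] [IsAlgClosed K] (π : A →+* k)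
    (hπ : Function.Surjective π) (hk : KeyAt k) (θ : k →+* K) (w : Spec (CommRingCat.of K) ⟶ _)
    (hw : Spec.map (CommRingCat.ofHom θ) ≫ Spec.map (CommRingCat.ofHom π) = w)
    (g : Over.mk w ⟶ G) : ∃ (a : 𝟙_ _ ⟶ U) (b : Over.mk w ⟶ V) (y : Over.mk w ⟶ P),
      g = (toUnit _ ≫ a ≫ u) * (b ≫ v) * (y ≫ p) := by
  have : IsAffineHom G.hom := hG.1
  have : Smooth G.hom := hG.2.1
  let q : Spec (CommRingCat.of k) ⟶ Spec (CommRingCat.of A) := Spec.map (CommRingCat.ofHom π)
  let z : Spec (CommRingCat.of K) ⟶ Spec (CommRingCat.of k) := Spec.map (CommRingCat.ofHom θ)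
  let i : Over.mk w ≅ (Over.map q).obj (Over.mk z) := Over.isoMk (Iso.refl _) (by
    change 𝟙 _ ≫ z ≫ q = w
    rw [Category.id_comp, hw])
  let i₁ : Over.mk q ≅ (Over.map q).obj (𝟙_ (Over (Spec (CommRingCat.of k)))) :=
    Over.isoMk (Iso.refl _) (by
    change 𝟙 _ ≫ 𝟙 _ ≫ q = q
    rw [Category.id_comp, Category.id_comp])
  have hv' : IsDynU (negLam (bcLam lam q)) ((Over.pullback q).map v) := by
    rw [← bcLam_negLam]
    exact hv.bc q
  obtain ⟨a, b, y, h⟩ := hk (Red.bc q G) (Red.bc q P) (Red.bc q U) (Red.bc q V)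
    (RedBcAny636.isReductive_bc q hG) (bcLam lam q) ((Over.pullback q).map p)
    ((Over.pullback q).map u) ((Over.pullback q).map v) (hp.bc q) (hu.bc q) hv' K z
    ((dnI q i).symm g)
  obtain ⟨s, hs⟩ := exists_lift_of_isAffRet (isAffRet_of_isDynU lam u hu) π hπ (dnI q i₁ a)
  refine ⟨s, dnI q i b, dnI q i y, ?_⟩
  let t : Over.mk w ⟶ Over.mk q := Over.homMk z hw
  have h1 : dnI q i (toUnit (Over.mk z) ≫ a ≫ (Over.pullback q).map u) =
      toUnit _ ≫ s ≫ u := by
    rw [dnI_comp q i i₁ (toUnit (Over.mk z)) t ?_ _, dnI_map, hs, Category.assoc,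
      ← Category.assoc, toUnit_unique (t ≫ toUnit (Over.mk q)) (toUnit _)]
    have h2 : (toUnit (Over.mk z)).left = z := by
      have := Over.w (toUnit (Over.mk z))
      exact (Category.comp_id _).symm.trans this
    rw [h2]
    exact (Category.id_comp _).trans (Category.comp_id _).symm
  rw [← h1, ← dnI_map, ← dnI_map, ← map_mul, ← map_mul, ← h, MulEquiv.apply_symm_apply]

lemma lift_fst_snd_comp {C : Type*} [Category C] [CartesianMonoidalCategory C] {X Y Z : C}
    (l : X ⟶ Y ⊗ Z) : lift (l ≫ fst _ _) (l ≫ snd _ _) = l := by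
  ext <;> simp

/-- **From the residue fields to the group.** -/
theorem main (hG : Red.IsReductive G) (hpar : Red.IsParabolic p) (hp : IsDynP lam p)
    (hu : IsDynU lam u) (hv : IsDynU (negLam lam) v)
    (hkey : ∀ (k : Type u) [Field k] (π : A →+* k), Function.Surjective π → KeyAt k) (x : G.left) :
    ∃ a : 𝟙_ _ ⟶ U,
      x ∈ Set.range ((toUnit (V ⊗ P) ≫ a ≫ u) * ((v ⊗ₘ p) ≫ μ[G])).left := by
  have : IsAffineHom G.hom := hG.1
  have : Smooth G.hom := hG.2.1
  have := hp.isMonHom
  obtain ⟨K, _, _, O, ψ, hm, g, hx⟩ := exists_geom G x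
  let c : Spec (CommRingCat.of O) ⟶ Spec (CommRingCat.of A) := Spec.map (CommRingCat.ofHom ψ)
  obtain ⟨g₀, y, hg⟩ := iwasawa hG p hpar c g
  obtain ⟨k, _, π, hπ, K', _, _, θ, χ, hχ, hc⟩ := exists_closed ψ hm
  let w : Over.mk (Spec.map (CommRingCat.ofHom χ) ≫ c) ⟶ Over.mk c :=
    Over.homMk (Spec.map (CommRingCat.ofHom χ)) rfl
  have hw : Spec.map (CommRingCat.ofHom θ) ≫ Spec.map (CommRingCat.ofHom π) =
      Spec.map (CommRingCat.ofHom χ) ≫ c := by
    rw [← Spec.map_comp, ← Spec.map_comp, ← CommRingCat.ofHom_comp, ← CommRingCat.ofHom_comp, hc]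
  obtain ⟨a, b₁, y₁, h₁⟩ := exists_section hG hp hu hv π hπ (hkey k π hπ) θ _ hw (w ≫ g₀)
  let h : Over.mk c ⟶ G := (toUnit _ ≫ a ≫ u)⁻¹ * g₀
  let j := (v ⊗ₘ p) ≫ μ[G]
  have hj : IsOpenImmersion j.left := DynCell998.isOpenImmersion_cell hp hv
  have hwh : w ≫ h = lift b₁ y₁ ≫ j := by
    have h2 : w ≫ (toUnit (Over.mk c) ≫ a ≫ u)⁻¹ = (toUnit _ ≫ a ≫ u)⁻¹ := by
      rw [GrpObj.comp_inv, ← Category.assoc, toUnit_unique (w ≫ toUnit _) (toUnit _)]
    have h3 : lift b₁ y₁ ≫ j = (b₁ ≫ v) * (y₁ ≫ p) := by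
      rw [← Category.assoc, lift_map]
      rfl
    rw [MonObj.comp_mul, h2, h₁, h3, _root_.mul_assoc, inv_mul_cancel_left]
  have hcl : IsLocalRing.closedPoint O ∈ h.left ⁻¹ᵁ j.left.opensRange := by
    have h2 : Spec.map (CommRingCat.ofHom χ) (IsLocalRing.closedPoint K') =
        IsLocalRing.closedPoint O := IsLocalRing.comap_closedPoint χ
    change h.left (IsLocalRing.closedPoint O) ∈ Set.range j.left
    rw [← h2, ← Scheme.Hom.comp_apply]
    have h3 : Spec.map (CommRingCat.ofHom χ) ≫ h.left = (lift b₁ y₁).left ≫ j.left := by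
      have := congrArg (fun z => z.left) hwh
      exact this
    rw [h3, Scheme.Hom.comp_apply]
    exact ⟨_, rfl⟩
  have htop : h.left ⁻¹ᵁ j.left.opensRange = ⊤ := (IsLocalRing.closedPoint_mem_iff _).1 hcl
  have hr : Set.range h.left ⊆ Set.range j.left := by
    rintro _ ⟨t, rfl⟩
    have : t ∈ h.left ⁻¹ᵁ j.left.opensRange := by
      rw [htop]
      trivial
    exact this
  let l : Over.mk c ⟶ V ⊗ P := Over.homMk (IsOpenImmersion.lift j.left h.left hr) (by
    rw [← Over.w j, ← Category.assoc, IsOpenImmersion.lift_fac]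
    exact Over.w h)
  have hl : l ≫ j = h := by
    ext1
    exact IsOpenImmersion.lift_fac _ _ _
  refine ⟨a, ?_⟩
  have key : lift ((genPt K c ≫ l) ≫ fst _ _) (((genPt K c ≫ l) ≫ snd _ _) * y) ≫
      ((toUnit (V ⊗ P) ≫ a ≫ u) * j) = g := by
    have h2 : ∀ (b : _ ⟶ V) (y : Over.mk (Spec.map (CommRingCat.ofHom (algebraMap O K)) ≫ c) ⟶ P),
        lift b y ≫ j = (b ≫ v) * (y ≫ p) := by
      intro b y
      rw [← Category.assoc, lift_map]
      rfl
    have h3 : genPt K c ≫ g₀ = (toUnit _ ≫ a ≫ u) * (genPt K c ≫ l ≫ j) := by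
      rw [hl, MonObj.comp_mul, GrpObj.comp_inv, ← Category.assoc (genPt K c) (toUnit _),
        toUnit_unique (genPt K c ≫ toUnit _) (toUnit _), mul_inv_cancel_left]
    have h4 : genPt K c ≫ l ≫ j = (((genPt K c ≫ l) ≫ fst _ _) ≫ v) *
        (((genPt K c ≫ l) ≫ snd _ _) ≫ p) := by
      rw [← h2, lift_fst_snd_comp (genPt K c ≫ l), Category.assoc]
    rw [MonObj.comp_mul, h2, ← Category.assoc, toUnit_unique (_ ≫ toUnit _) (toUnit _), hg, h3, h4,
      MonObj.mul_comp, _root_.mul_assoc, _root_.mul_assoc]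
  have h5 : g.left = _ ≫ ((toUnit (V ⊗ P) ≫ a ≫ u) * j).left := congrArg (fun z => z.left) key.symm
  rw [h5] at hx
  obtain ⟨t, ht⟩ := hx
  rw [Scheme.Hom.comp_apply] at ht
  exact ⟨_, ht⟩

end Key

end Groth.Agent.RedSub.H671.KeyGlue
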