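import Groth.Agent.Sga3B.Parab.UAff

/-!
# A graded chart of `U_G(λ)` over an affine base

`H` a smooth commutative Hopf algebra over a ring `k`, `l : H → k[T, T⁻¹]` a cocharacter: the
coordinate ring `H / JU l` of `U_G(l)` is a retract of a polynomial ring, compatibly with the
gradings, the variables having positive degrees.
-/

set_option autoImplicit false
set_option linter.unusedSectionVars false

universe u

open scoped LaurentPolynomial Polynomial
open Groth.Agent.Sga3B.GrDynAlg678 Groth.Agent.Sga3B.GrDynInner678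
open Groth.Agent.Books.DynBasic Groth.Agent.Books.DynLim
open Groth.Agent.Sga3B.Parab Groth.Agent.Sga3B.Parab.UAff

namespace Groth.Agent.RedSub.H671.UChart

section Poly

open MvPolynomial Groth.Agent.Sga3B.Parab.Retract

attribute [local instance] MvPolynomial.weightedGradedAlgebra

variable {A : Type*} [CommRing A] {n : ℕ} (w : Fin n → ℤ)
  {B : Type*} [CommRing B] [Algebra A B] (ℬ : ℤ → Submodule A B) [GradedAlgebra ℬ]

/-- `Retract.exists_section` with degrees. -/
theorem exists_section [Algebra.FormallySmooth A B] (b : Fin n → B) (hw : ∀ i, 0 < w i)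
    (hb : ∀ i, b i ∈ ℬ (w i))
    (hs : Function.Surjective (aeval b : MvPolynomial (Fin n) A →ₐ[A] B))
    (hK : RingHom.ker (aeval b : MvPolynomial (Fin n) A →ₐ[A] B) ≤ idealOfVars (Fin n) A)
    (hfg : (RingHom.ker (aeval b : MvPolynomial (Fin n) A →ₐ[A] B)).FG) :
    ∃ i : B →ₐ[A] MvPolynomial (Fin n) A, (aeval b).comp i = AlgHom.id A B ∧
      ∀ m x, x ∈ ℬ m → i x ∈ weightedHomogeneousSubmodule A w m := by
  classical
  set K := RingHom.ker (aeval b : MvPolynomial (Fin n) A →ₐ[A] B) with hKdef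
  obtain ⟨t, ht⟩ := hfg
  have hN1 : ∀ a : MvPolynomial (Fin n) A, ∃ N : ℕ, ∀ m : ℤ, (N : ℤ) ≤ m →
      pr (weightedHomogeneousSubmodule A w) m a = 0 := by
    intro a
    refine ⟨(supp (weightedHomogeneousSubmodule A w) a).sup fun m => (m + 1).toNat, ?_⟩
    intro m hm
    apply pr_eq_zero_of_notMem
    intro hmem
    have h1 := Finset.le_sup (f := fun m : ℤ => (m + 1).toNat) hmem
    have h2 : m + 1 ≤ ((m + 1).toNat : ℤ) := Int.self_le_toNat _
    have h3 : (((m + 1).toNat : ℕ) : ℤ) ≤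
      ((supp (weightedHomogeneousSubmodule A w) a).sup fun m => (m + 1).toNat : ℕ) :=
      Int.ofNat_le.2 h1
    omega
  choose N₀ hN₀ using hN1
  let N : ℕ := t.sup N₀
  obtain ⟨g, hg1, hg2⟩ := exists_lift_pow w ℬ b hb hs N
  choose p hp1 hp2 using fun i => hg1 (w i) (b i) (hb i)
  let s : MvPolynomial (Fin n) A →ₐ[A] MvPolynomial (Fin n) A := aeval p
  have hmk : ∀ x, Ideal.Quotient.mk (K ^ (N + 1)) (s x) = g (aeval b x) := by
    have h1 : (Ideal.Quotient.mkₐ A (K ^ (N + 1))).comp s = g.comp (aeval b) := by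
      ext i
      rw [AlgHom.comp_apply, AlgHom.comp_apply, aeval_X, aeval_X]
      exact hp2 i
    exact fun x => DFunLike.congr_fun h1 x
  have hsK : ∀ x ∈ K, s x = 0 := by
    have h1 : K ≤ RingHom.ker s := by
      rw [← ht, Ideal.span_le]
      intro a ha
      change s a = 0
      rw [← sum_pr (weightedHomogeneousSubmodule A w) a, map_sum]
      refine Finset.sum_eq_zero fun m _ => ?_
      by_cases hm : (N : ℤ) ≤ m
      · rw [hN₀ a m, map_zero]
        refine le_trans ?_ hm
        exact Int.ofNat_le.2 (Finset.le_sup ha)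
      · push Not at hm
        refine eq_zero_of_mem_pow w hw (N := N + 1) (by push_cast; omega)
          (aeval_mem w (weightedHomogeneousSubmodule A w) p hp1 (pr_mem _ m a)) ?_
        apply Ideal.pow_right_mono hK
        rw [← Ideal.Quotient.eq_zero_iff_mem]
        refine (hmk _).trans ?_
        have haK : a ∈ K := ht ▸ Ideal.subset_span ha
        have h2 : aeval b (pr (weightedHomogeneousSubmodule A w) m a) = 0 :=
          isHomogeneous_ker w ℬ b hb m haK
        rw [h2, map_zero]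
    exact h1
  let e := Ideal.quotientKerAlgEquivOfSurjective hs
  let i : B →ₐ[A] MvPolynomial (Fin n) A :=
    (Ideal.Quotient.liftₐ K s hsK).comp (e.symm : B →ₐ[A] _)
  have hi : ∀ x, i (aeval b x) = s x := by
    intro x
    have h1 : e.symm (aeval b x) = Ideal.Quotient.mk _ x := by
      apply e.injective
      rw [e.apply_symm_apply]
      rfl
    change Ideal.Quotient.liftₐ K s hsK (e.symm (aeval b x)) = s x
    rw [h1]
    rfl
  have h3 : (aeval b).comp s = aeval b := by
    ext j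
    rw [AlgHom.comp_apply]
    change aeval b (aeval p (X j)) = _
    rw [aeval_X, aeval_X]
    have h4 : bar b N (Ideal.Quotient.mk _ (p j)) = b j := by
      have h5 := DFunLike.congr_fun hg2 (b j)
      rw [AlgHom.comp_apply, ← hp2 j] at h5
      exact h5
    exact h4
  refine ⟨i, ?_, ?_⟩
  · ext x
    obtain ⟨y, rfl⟩ := hs x
    rw [AlgHom.comp_apply, hi]
    exact DFunLike.congr_fun h3 y
  · intro m x hx
    obtain ⟨y, rfl⟩ := hs x
    have h4 : aeval b (pr (weightedHomogeneousSubmodule A w) m y) = aeval b y := by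
      rw [map_pr (𝒜' := ℬ) _ (fun m p hp => aeval_mem w ℬ b hb hp), pr_same ℬ hx]
    rw [← h4, hi]
    exact aeval_mem w (weightedHomogeneousSubmodule A w) p hp1 (pr_mem _ m y)

/-- `Retract.exists_retract` with degrees. -/
theorem exists_retract [Algebra.FormallySmooth A B] [Algebra.FinitePresentation A B]
    (hneg : ∀ m < 0, ∀ x ∈ ℬ m, x = 0) (h0 : ∀ x ∈ ℬ 0, ∃ c, algebraMap A B c = x)
    (ε : B →ₐ[A] A) (hε : ∀ m > 0, ∀ x ∈ ℬ m, ε x = 0) :
    ∃ (n : ℕ) (w : Fin n → ℤ) (i : B →ₐ[A] MvPolynomial (Fin n) A) (b : Fin n → B),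
      (∀ j, 0 < w j) ∧ (∀ j, b j ∈ ℬ (w j)) ∧
      (∀ m x, x ∈ ℬ m → i x ∈ weightedHomogeneousSubmodule A w m) ∧
      (aeval b).comp i = AlgHom.id A B := by
  obtain ⟨n, w, b, hw, hb, hs⟩ := exists_gens ℬ hneg h0
  obtain ⟨i, hi, hi'⟩ := exists_section w ℬ b hw hb hs (by
    intro x hx
    rw [← pow_one (idealOfVars (Fin n) A), mem_pow_idealOfVars_iff]
    intro d hd
    by_contra hd0
    have hd1 : d = 0 := by
      rw [← Finsupp.degree_eq_zero_iff]
      omega
    subst hd1
    rw [mem_support_iff] at hd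
    apply hd
    have h1 : ε.comp (aeval b) = aeval (fun _ => (0 : A)) := by
      ext j
      rw [AlgHom.comp_apply, aeval_X, aeval_X]
      exact hε _ (hw j) _ (hb j)
    have h2 := DFunLike.congr_fun h1 x
    rw [AlgHom.comp_apply, show aeval b x = 0 from hx, map_zero] at h2
    rw [← constantCoeff_eq]
    have h3 : (aeval (fun _ => (0 : A)) : MvPolynomial (Fin n) A →ₐ[A] A) x = constantCoeff x := by
      have h4 := aeval_zero' (S₁ := A) x
      exact h4
    rw [h3] at h2
    exact h2.symm) (Algebra.FinitePresentation.ker_fG_of_surjective _ hs)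
  exact ⟨n, w, i, b, hw, hb, hi', hi⟩

end Poly

variable {k : Type u} [CommRing k] {H : Type u} [CommRing H] [HopfAlgebra k H]

/-- **A graded chart of `U_G(λ)`.** -/
theorem exists_chart [Algebra.FormallySmooth k H] [Algebra.FinitePresentation k H]
    (l : H →ₐc[k] k[T;T⁻¹]) :
    ∃ (n : ℕ) (w : Fin n → ℕ) (i : H →ₐ[k] MvPolynomial (Fin n) k) (b : Fin n → H),
      (∀ j, 0 < w j) ∧ (∀ j, b j ∈ gr l (w j : ℤ)) ∧ (∀ a ∈ JU l, i a = 0) ∧
      (∀ (m : ℤ) (a : H), a ∈ gr l m →
        i a ∈ MvPolynomial.weightedHomogeneousSubmodule k (fun j => (w j : ℤ)) m) ∧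
      (∀ a, MvPolynomial.aeval (fun j => Ideal.Quotient.mk (JU l) (b j)) (i a) =
        Ideal.Quotient.mk (JU l) a) := by
  have := formallySmooth_JU l
  have := finitePresentation_JU l
  have hJ : ∀ a ∈ JU l, ∀ m, GradedAlgebra.proj (gr l) m a ∈ JU l := fun a ha m =>
    isHomogeneous_JU l m ha
  let _ := quotGraded (gr l) hJ
  obtain ⟨n, w, i, b, hw, hb, hi, hib⟩ := exists_retract (A := k)
    (quotGr (gr l) (JU l)) (by
      rintro m hm _ ⟨a, ha, rfl⟩
      exact Ideal.Quotient.eq_zero_iff_mem.2 (Ideal.mem_sup_left (Ideal.subset_span ⟨m, hm, ha⟩)))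
    (by
      rintro _ ⟨a, ha, rfl⟩
      refine ⟨Coalgebra.counit (R := k) a, ?_⟩
      change Ideal.Quotient.mk (JU l) (algebraMap k H _) = Ideal.Quotient.mk (JU l) a
      rw [Ideal.Quotient.eq, ← neg_mem_iff, neg_sub]
      refine Ideal.mem_sup_right (Ideal.subset_span ⟨sub_mem ha (algebraMap_mem_gr l _), ?_⟩)
      rw [map_sub, Bialgebra.counit_algebraMap, sub_self])
    (Ideal.Quotient.liftₐ (JU l) (Bialgebra.counitAlgHom k H) fun a ha =>
      counit_eq_zero_of_mem_JU l ha)
    (by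
      rintro m hm _ ⟨a, ha, rfl⟩
      exact counit_of_mem_gr l hm.ne' ha)
  choose c hc1 hc2 using hb
  have hw' : (fun j => ((w j).toNat : ℤ)) = w := funext fun j => Int.toNat_of_nonneg (hw j).le
  refine ⟨n, fun j => (w j).toNat, i.comp (Ideal.Quotient.mkₐ k (JU l)), c, ?_, ?_, ?_, ?_, ?_⟩
  · intro j
    have h1 := hw j
    change 0 < (w j).toNat
    omega
  · intro j
    rw [Int.toNat_of_nonneg (hw j).le]
    exact hc1 j
  · intro a ha
    rw [AlgHom.comp_apply, Ideal.Quotient.mkₐ_eq_mk, Ideal.Quotient.eq_zero_iff_mem.2 ha, map_zero]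
  · intro m a ha
    rw [hw']
    exact hi m _ ⟨a, ha, rfl⟩
  · intro a
    have h1 : (fun j => Ideal.Quotient.mk (JU l) (c j)) = b := funext hc2
    rw [h1]
    exact DFunLike.congr_fun hib (Ideal.Quotient.mk (JU l) a)

end Groth.Agent.RedSub.H671.UChart
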