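import Groth.Agent.RedSub.H662.KeyK
import Groth.Agent.RedSub.H671.UChart

/-!
# The chart of `U_G(λ)` over an extension field

`H` a smooth commutative Hopf algebra over a field `k`, `l` a cocharacter, `K` an extension of `k`,
`i : H → k[x₁, …, xₙ]` the chart of `U_G(l)` (`UChart.exists_chart`) and `iK : H → K[x₁, …, xₙ]` its
base change.
-/

set_option autoImplicit false
set_option linter.unusedSectionVars false
universe u

open scoped LaurentPolynomial Polynomial

namespace Groth.Agent.RedSub.H671.KeyPts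

open Groth.Agent.Sga3B.GrDynAlg678 Groth.Agent.Sga3B.GrDynInner678
open Groth.Agent.Books.DynBasic Groth.Agent.Books.DynLim
open Groth.Agent.RedSub.H662.KeyK

variable {k : Type u} [Field k] {K : Type u} [Field K] [Algebra k K] {n : ℕ} (w : Fin n → ℕ)

lemma Th_of_homogeneous {p : MvPolynomial (Fin n) K} {m : ℤ}
    (hp : p ∈ MvPolynomial.weightedHomogeneousSubmodule K (fun j => (w j : ℤ)) m) :
    Th K w p = LaurentPolynomial.C p * LaurentPolynomial.T m := by
  classical
  rw [MvPolynomial.mem_weightedHomogeneousSubmodule] at hp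
  rw [p.as_sum, map_sum, map_sum, Finset.sum_mul]
  refine Finset.sum_congr rfl fun d hd => ?_
  have h1 : Finsupp.weight (fun j => (w j : ℤ)) d = m := hp (MvPolynomial.mem_support_iff.1 hd)
  rw [Th, MvPolynomial.aeval_monomial, ← h1, MvPolynomial.monomial_eq, map_mul, mul_assoc]
  have h2 : (algebraMap K (MvPolynomial (Fin n) K)[T;T⁻¹]) (MvPolynomial.coeff d p) =
      LaurentPolynomial.C (MvPolynomial.C (MvPolynomial.coeff d p)) := rfl
  rw [h2]
  congr 1
  rw [Finsupp.prod, Finsupp.prod, map_prod, Finsupp.weight_apply, Finsupp.sum]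
  have h3 : ∀ s : Finset (Fin n), (LaurentPolynomial.T (∑ x ∈ s, d x • (w x : ℤ)) :
      (MvPolynomial (Fin n) K)[T;T⁻¹]) = ∏ x ∈ s, LaurentPolynomial.T (d x • (w x : ℤ)) := by
    intro s
    induction s using Finset.induction_on with
    | empty => simp
    | insert a s ha ih => rw [Finset.sum_insert ha, Finset.prod_insert ha, LaurentPolynomial.T_add, ih]
  rw [h3, ← Finset.prod_mul_distrib]
  refine Finset.prod_congr rfl fun x _ => ?_
  rw [mul_pow, LaurentPolynomial.T_pow, map_pow, mul_comm, nsmul_eq_mul]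

/-- base change of polynomials -/
noncomputable def mK (k K : Type u) [Field k] [Field K] [Algebra k K] (n : ℕ) :
    MvPolynomial (Fin n) k →ₐ[k] MvPolynomial (Fin n) K :=
  MvPolynomial.mapAlgHom (Algebra.ofId k K)

lemma mK_mem {p : MvPolynomial (Fin n) k} {m : ℤ}
    (hp : p ∈ MvPolynomial.weightedHomogeneousSubmodule k (fun j => (w j : ℤ)) m) :
    mK k K n p ∈ MvPolynomial.weightedHomogeneousSubmodule K (fun j => (w j : ℤ)) m := by
  rw [MvPolynomial.mem_weightedHomogeneousSubmodule] at hp ⊢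
  intro d hd
  apply hp
  intro h0
  apply hd
  change MvPolynomial.coeff d (MvPolynomial.map (algebraMap k K) p) = 0
  rw [MvPolynomial.coeff_map, h0, map_zero]

lemma aeval_mK {B : Type u} [CommRing B] [Algebra K B] [Algebra k B] [IsScalarTower k K B]
    (η : Fin n → B) (p : MvPolynomial (Fin n) k) :
    MvPolynomial.aeval (R := K) η (mK k K n p) = MvPolynomial.aeval (R := k) η p := by
  change MvPolynomial.aeval (R := K) η (MvPolynomial.map (algebraMap k K) p) = _
  exact MvPolynomial.aeval_map_algebraMap K η p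

variable {H : Type u} [CommRing H] [HopfAlgebra k H] (l : H →ₐc[k] k[T;T⁻¹])
  (i : H →ₐ[k] MvPolynomial (Fin n) k) (b : Fin n → H)

/-- the chart over `K` -/
noncomputable def iK (K : Type u) [Field K] [Algebra k K] : H →ₐ[k] MvPolynomial (Fin n) K :=
  (mK k K n).comp i

variable {w} {l} {i} {b}
variable (hi : ∀ (m : ℤ) (a : H), a ∈ gr l m →
    i a ∈ MvPolynomial.weightedHomogeneousSubmodule k (fun j => (w j : ℤ)) m)

include hi in
/-- (E1) -/
lemma Th_iK {m : ℤ} {a : H} (ha : a ∈ gr l m) :
    Th K w (iK i K a) = LaurentPolynomial.C (iK i K a) * LaurentPolynomial.T m :=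
  Th_of_homogeneous w (mK_mem w (hi m a ha))

include hi in
/-- (E1) -/
lemma Th_comp_iK : ((Th K w).restrictScalars k).comp (iK i K) =
    Dyn.conjOrbit k H l (MvPolynomial (Fin n) K) (iK i K) := by
  refine algHom_ext (gr l) fun m a ha => ?_
  rw [conjOrbit_eq_map]
  change Th K w (iK i K a) = AddMonoidAlgebra.mapAlgHom ℤ (iK i K) (rho l a)
  rw [Th_iK hi ha, (mem_gr l).1 ha, ← LaurentPolynomial.single_eq_C_mul_T,
    ← LaurentPolynomial.single_eq_C_mul_T, AddMonoidAlgebra.mapAlgHom_single]

lemma iK_eq_zero (hi0 : ∀ a ∈ JU l, i a = 0) {a : H} (ha : a ∈ JU l) : iK i K a = 0 := by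
  change mK k K n (i a) = 0
  rw [hi0 a ha, map_zero]

/-- (E2) -/
lemma exists_eta (hw : ∀ j, 0 < w j) (hb : ∀ j, b j ∈ gr l (w j : ℤ))
    (hib : ∀ a, MvPolynomial.aeval (fun j => Ideal.Quotient.mk (JU l) (b j)) (i a) =
      Ideal.Quotient.mk (JU l) a)
    {B : Type u} [CommRing B] [Algebra K B] [Algebra k B] [IsScalarTower k K B]
    (phi : H →ₐ[k] B) (hphi : ∀ a ∈ JU l, phi a = 0) (J : Ideal B)
    (hJ : ∀ a : H, Ideal.Quotient.mk J (phi a) =
      Ideal.Quotient.mk J (algebraMap k B (Coalgebra.counit (R := k) a))) :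
    ∃ eta : Fin n → B,
      ((MvPolynomial.aeval (R := K) eta).restrictScalars k).comp (iK i K) = phi ∧
      ∀ j, eta j ∈ J := by
  refine ⟨fun j => phi (b j), AlgHom.ext fun x => ?_, fun j => ?_⟩
  · change MvPolynomial.aeval (R := K) (fun j => phi (b j)) (mK k K n (i x)) = _
    rw [aeval_mK]
    have h1 : MvPolynomial.aeval (R := k) (fun j => phi (b j)) (i x) =
        phi (MvPolynomial.aeval b (i x)) :=
      (MvPolynomial.comp_aeval_apply (R := k) (f := b) phi (i x)).symm
    rw [h1, ← sub_eq_zero, ← map_sub]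
    apply hphi
    rw [← Ideal.Quotient.eq_zero_iff_mem, map_sub, sub_eq_zero]
    refine Eq.trans ?_ (hib x)
    exact MvPolynomial.comp_aeval_apply (R := k) (f := b) (Ideal.Quotient.mkₐ k (JU l)) (i x)
  · have h1 := hJ (b j)
    rw [counit_of_mem_gr l (by have := hw j; omega) (hb j), map_zero, map_zero,
      Ideal.Quotient.eq_zero_iff_mem] at h1
    exact h1

/-- the points of the chart over `k` and over `K` -/
lemma aeval_iK (a : Fin n → k) :
    ((MvPolynomial.aeval (R := K) (fun j => algebraMap k K (a j))).restrictScalars k).comp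
      (iK i K) = (Algebra.ofId k K).comp ((MvPolynomial.aeval (R := k) a).comp i) := by
  refine AlgHom.ext fun x => ?_
  change MvPolynomial.aeval (R := K) (fun j => algebraMap k K (a j)) (mK k K n (i x)) =
    algebraMap k K (MvPolynomial.aeval (R := k) a (i x))
  rw [aeval_mK]
  exact MvPolynomial.aeval_algebraMap_apply K a (i x)

end Groth.Agent.RedSub.H671.KeyPts
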