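import Groth.Agent.Sga3B.Par.LevFin622
import Groth.Agent.Sga3B.Par.LeviProj
import Groth.Agent.Sga3B.Par.ConjOf4
import Groth.Agent.Sga3B.Par.ConjDyn895
import Groth.Agent.Sga3B.Parab.PbFinal910
import Groth.Agent.Sga3B.Parab.PcLOf172
import Groth.Agent.Sga3B.Parab.OppMain151
import Groth.Agent.Sga3B.SplitFin885

/-!
# Opposite parabolic subgroups over an affine base come from one cocharacter

`P`, `P'` parabolic with `P ∩ P' = L` a Levi subgroup of `P`, `U` the unipotent radical of `P`: there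
is `λ : 𝔾_m ⟶ G` with `P = P_G(λ)`, `U = U_G(λ)`, `L = Z_G(λ)`, `P' = P_G(-λ)`.
-/

set_option autoImplicit false
universe u

open CategoryTheory MonoidalCategory CartesianMonoidalCategory MonObj GrpObj AlgebraicGeometry Limits

namespace Groth.Agent.RedSub.H671.DynOpp

open Groth.Agent.Sga3B Groth.Agent.Sga3B.Parab Groth.Agent.Sga3B.Par
open Groth.Agent.Sga3B.Par.ConjDyn895

section Iso

variable {S : Scheme.{u}} {G U U' : Over S} [GrpObj G] [GrpObj U] [GrpObj U']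
  {lam : Red.Gm S ⟶ G} {u : U ⟶ G} {u' : U' ⟶ G}

/-- `U_G(λ)` is invariant under isomorphisms over `G` -/
theorem isDynU_of_iso (h : IsDynU lam u) [IsMonHom u'] [Mono u'] (e : U' ≅ U)
    (he : e.hom ≫ u = u') : IsDynU lam u' where
  isMonHom := inferInstance
  mono := inferInstance
  iff_ptU X g := by
    rw [← h.iff_ptU]
    constructor
    · rintro ⟨x, rfl⟩
      exact ⟨x ≫ e.hom, by rw [Category.assoc, he]⟩
    · rintro ⟨x, rfl⟩
      exact ⟨x ≫ e.inv, by rw [← he, Category.assoc, Iso.inv_hom_id_assoc]⟩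

end Iso

/-- the conjugate of a cocharacter by a section -/
noncomputable def conjLam {S : Scheme.{u}} {G : Over S} [GrpObj G] (lam : Red.Gm S ⟶ G)
    (w : 𝟙_ (Over S) ⟶ G) : Red.Gm S ⟶ G := (toUnit _ ≫ w) * lam * (toUnit _ ≫ w)⁻¹

section Conj

variable {S : Scheme.{u}} {G : Over S} [GrpObj G] (lam : Red.Gm S ⟶ G) (w : 𝟙_ (Over S) ⟶ G)

lemma isConj_conjLam : IsConj lam w (conjLam lam w) := by
  intro X t
  rw [conjLam, MonObj.comp_mul, MonObj.comp_mul, GrpObj.comp_inv, ← Category.assoc, comp_toUnit]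

instance [IsMonHom lam] : IsMonHom (conjLam lam w) := by
  have h : ∀ {X : Over S} (a b : X ⟶ Red.Gm S),
      (a * b) ≫ conjLam lam w = (a ≫ conjLam lam w) * (b ≫ conjLam lam w) := by
    intro X a b
    rw [isConj_conjLam lam w X, isConj_conjLam lam w X, isConj_conjLam lam w X, MonObj.mul_comp]
    group
  refine ⟨?_, ?_⟩
  · have h1 := isConj_conjLam lam w _ η[Red.Gm S]
    rw [h1, IsMonHom.one_hom]
    change (toUnit _ ≫ w) * 1 * (toUnit _ ≫ w)⁻¹ = 1
    rw [_root_.mul_one, mul_inv_cancel]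
  · have h1 := h (fst (Red.Gm S) (Red.Gm S)) (snd (Red.Gm S) (Red.Gm S))
    have h2 : fst (Red.Gm S) (Red.Gm S) * snd (Red.Gm S) (Red.Gm S) = μ[Red.Gm S] := by
      change lift (fst _ _) (snd _ _) ≫ μ = _
      rw [lift_fst_snd, Category.id_comp]
    have h3 : (conjLam lam w ⊗ₘ conjLam lam w) ≫ μ[G] =
        (fst (Red.Gm S) (Red.Gm S) ≫ conjLam lam w) * (snd _ _ ≫ conjLam lam w) := by
      change _ = lift _ _ ≫ μ
      congr 1
    rw [h3, ← h1, h2]

end Conj

variable {A : Type u} [CommRing A] {G P P' U L : Over (Spec (CommRingCat.of A))} [GrpObj G]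
  [GrpObj P] [GrpObj P'] [GrpObj U] [GrpObj L]

/-- **Opposite parabolic subgroups over an affine base.** -/
theorem exists_cochar (hG : Red.IsReductive G) (p : P ⟶ G) (p' : P' ⟶ G) (hP : Red.IsParabolic p)
    (hP' : Red.IsParabolic p') (l : L ⟶ P) (l' : L ⟶ P') (hL : IsPullback l l' p p')
    (hl : Par.IsLevi l) (uU : U ⟶ P) (hU : Par.IsUnipotentRadical uU) :
    ∃ (lam : Red.Gm (Spec (CommRingCat.of A)) ⟶ G) (_ : IsMonHom lam), IsDynP lam p ∧
      IsDynU lam (uU ≫ p) ∧ IsDynZ lam (l ≫ p) ∧ IsDynP (negLam lam) p' := by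
  have hpm := hP.1
  have hum := hU.1
  have hlm := hl.1
  have hlmono := hl.2.1
  obtain ⟨lam₀, _, h₀⟩ := LevFin622.exists_cochar SplitFin885.splitTStmt hG p hP
  have hpmono := h₀.mono
  obtain ⟨U₀, Z, _, _, u₀, z, hu₀, hz, -, hur, hlev⟩ :=
    LeviOfDyn383.exists_all DynGeom678.dynGeomU Uncond688.dynK1 K3b143.dynK3 hG lam₀ p h₀
  obtain ⟨x, ⟨e, he⟩, -⟩ := ConjOf4.main (fun K _ _ => PbAll.k1 K) (fun K _ _ => PbAll.k2 K) hG p hP
    uU hU z l hlev hl
  obtain ⟨φ, hφ⟩ := LeviProj.exists_iso_of_isUnipotentRadical hU hur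
  have humono : Mono uU := by
    have := hU.2.1
    exact Over.mono_of_mono_left uU
  have hIm : Mono (uU ≫ p) := mono_comp _ _
  have hu : IsDynU lam₀ (uU ≫ p) := isDynU_of_iso hu₀ φ (by rw [← Category.assoc, hφ])
  let v : 𝟙_ _ ⟶ P := x ≫ uU
  have hconj := isConj_conjLam lam₀ (v ≫ p)
  have h1 : IsDynP (conjLam lam₀ (v ≫ p)) p := conj_isDynP' h₀ v hconj
  have h2 : IsDynU (conjLam lam₀ (v ≫ p)) (uU ≫ p) := conj_isDynU' h₀ hu v hconj
  have h3 : IsDynZ (conjLam lam₀ (v ≫ p)) (l ≫ p) := by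
    refine ⟨inferInstance, mono_comp _ _, fun X g => ?_⟩
    rw [ptZ_conj_iff hconj, ← hz.iff_ptZ X]
    have hzm := hlev.1
    have key : ∀ y : X ⟶ Z, (y ≫ e.hom) ≫ l ≫ p =
        (toUnit X ≫ v ≫ p) * (y ≫ z ≫ p) * (toUnit X ≫ v ≫ p)⁻¹ := by
      intro y
      rw [Category.assoc, ← Category.assoc e.hom, he, MonObj.mul_comp, MonObj.mul_comp,
        GrpObj.inv_comp, MonObj.comp_mul, MonObj.comp_mul, GrpObj.comp_inv]
      simp only [v, Category.assoc]
      rw [← Category.assoc y (toUnit Z), comp_toUnit]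
    constructor
    · rintro ⟨y, rfl⟩
      refine ⟨y ≫ e.inv, ?_⟩
      have h4 := key (y ≫ e.inv)
      rw [Category.assoc, Category.assoc, Iso.inv_hom_id_assoc] at h4
      rw [h4, cj]
      group
    · rintro ⟨y, hy⟩
      refine ⟨y ≫ e.hom, ?_⟩
      rw [key, hy, cj]
      group
  refine ⟨conjLam lam₀ (v ≫ p), inferInstance, h1, h2, h3, ?_⟩
  exact OppMain151.isDynP_opp (PcLOf172.parConn fun K _ _ G P _ _ p hG hp =>
    (PbFinal.dynK2 K G P p hG hp).1) hG hP' hL _ h1 h3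

end Groth.Agent.RedSub.H671.DynOpp
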