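import Groth.Agent.RedSub.H671.DynOpp
import Groth.Agent.RedSub.H671.KeyGlue

/-!
# S3980 from the covering property over fields
-/

set_option autoImplicit false
universe u

open CategoryTheory MonoidalCategory CartesianMonoidalCategory MonObj GrpObj AlgebraicGeometry Limits

namespace Groth.Agent.RedSub.H671.Glue80

open Groth.Agent.Sga3B Groth.Agent.Sga3B.Parab

/-- **S3980** from `KeyAt` for the residue fields of `A`. -/
theorem main {A : Type u} [CommRing A]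
    (hkey : ∀ (k : Type u) [Field k] (π : A →+* k), Function.Surjective π → KeyGlue.KeyAt k)
    {G P P' U L : Over (Spec (CommRingCat.of A))} [GrpObj G] [GrpObj P] [GrpObj P'] [GrpObj U] [GrpObj L]
    (hG : Red.IsReductive G) (p : P ⟶ G) (p' : P' ⟶ G) (hP : Red.IsParabolic p) (hP' : Red.IsParabolic p')
    (l : L ⟶ P) (l' : L ⟶ P') (hL : IsPullback l l' p p') (hl : Par.IsLevi l)
    (uU : U ⟶ P) (hU : Par.IsUnipotentRadical uU) (x : ↥G.left) :
    ∃ u : 𝟙_ _ ⟶ U,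
      x ∈ Set.range ((toUnit _ ≫ u ≫ uU ≫ p) * ((p' ⊗ₘ p) ≫ μ[G])).left.base := by
  have : IsAffineHom G.hom := hG.1
  obtain ⟨lam, _, hp, hu, -, hp'⟩ := DynOpp.exists_cochar hG p p' hP hP' l l' hL hl uU hU
  obtain ⟨V, _, v, hv, -⟩ := DynExist998.exists_isDynU (negLam lam)
  obtain ⟨b, hb⟩ := DynLevi998.exists_uP hp' hv
  obtain ⟨a, ha⟩ := KeyGlue.main hG hP hp hu hv hkey x
  refine ⟨a, ?_⟩
  have h : (toUnit (V ⊗ P) ≫ a ≫ uU ≫ p) * ((v ⊗ₘ p) ≫ μ[G]) =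
      (b ⊗ₘ 𝟙 P) ≫ ((toUnit (P' ⊗ P) ≫ a ≫ uU ≫ p) * ((p' ⊗ₘ p) ≫ μ[G])) := by
    rw [MonObj.comp_mul, ← Category.assoc _ (toUnit _), toUnit_unique (_ ≫ toUnit _) (toUnit _),
      ← Category.assoc (b ⊗ₘ 𝟙 P), MonoidalCategory.tensorHom_comp_tensorHom, hb, Category.id_comp]
  rw [h] at ha
  obtain ⟨t, ht⟩ := ha
  rw [Over.comp_left, Scheme.Hom.comp_apply] at ht
  exact ⟨_, ht⟩

end Groth.Agent.RedSub.H671.Glue80
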