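import Groth.Agent.Sga3B.Parab.Retr
import Groth.Agent.Sga3B.Parab.Semi
import Groth.Agent.Sga3B.Parab.Inter
import Groth.Agent.Sga3B.NormBc
import Groth.Agent.Sga3B.Parab.PcU
import Groth.Prelude.Def_Par

/-!
# Unipotent radicals and Levi subgroups of reductive groups are trivial

* `isTrivialGrp_of_isUnipotentRadical`: the unipotent radical of a parabolic `p : P ⟶ G` with `p` an
  isomorphism, `G` reductive, is trivial;
* `exists_factor_levi`: if `p : P ⟶ G` is an isomorphism of groups and `l : L ⟶ P` is a Levi subgroup then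
  every point of `G` is a point of `L`.
-/

set_option autoImplicit false

universe u

open CategoryTheory MonoidalCategory CartesianMonoidalCategory MonObj GrpObj Limits AlgebraicGeometry

namespace Groth.Agent.RedSub.H671.LeviTriv

open Groth.Agent.Sga3B Groth.Agent.Sga3B.Parab

variable {S : Scheme.{u}} {G P U L : Over S} [GrpObj G] [GrpObj P] [GrpObj U] [GrpObj L]

/-- A smooth affine normal closed subgroup of a reductive group whose geometric fibres are connected
without subtorus is trivial. -/
theorem isTrivialGrp_of_normal (hG : Red.IsReductive G) (w : U ⟶ G) [IsMonHom w]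
    (hcl : IsClosedImmersion w.left) (hn : AlgGrp.IsNormalHom w) (hs : Smooth U.hom)
    (hf : ∀ s : S, ConnectedSpace (Red.geomFibre s U).left ∧
      Red.HasNoSubtorus (AlgebraicClosure (S.residueField s)) (Red.geomFibre s U)) :
    Red.IsTrivialGrp U := by
  have hGa : IsAffineHom G.hom := hG.1
  have hUa : IsAffineHom U.hom := isAffineHom_of_closed w hcl hGa
  refine Retr.isTrivialGrp_of_fibres U fun s => ?_
  refine ⟨AlgebraicClosure (S.residueField s), inferInstance, Red.geomPt s, ?_, ?_⟩
  · rw [Scheme.Hom.comp_apply]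
    exact Scheme.fromSpecResidueField_apply _ _
  · have h1 := (hG.2.2 s).2.2.2 (Red.geomFibre s U) ((Over.pullback (Red.geomPt s)).map w)
    refine h1 (Inter.isClosedImmersion_bc _ w hcl) ?_ (hf s).1 (Inter.isNormalHom_bc _ w hn) (hf s).2
    exact inferInstanceAs (Smooth (pullback.snd U.hom (Red.geomPt s)))

/-- The unipotent radical of a group isomorphic to a reductive group is trivial. -/
theorem isTrivialGrp_of_isUnipotentRadical (hG : Red.IsReductive G) (p : P ⟶ G) [IsMonHom p]
    [IsIso p] {u : U ⟶ P} (hu : Par.IsUnipotentRadical u) : Red.IsTrivialGrp U := by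
  obtain ⟨hum, hucl, hun, hus, -, huf, -⟩ := hu
  have hpl : IsIso p.left := (Over.forget S).map_isIso p
  have hcl : IsClosedImmersion (u ≫ p).left := by
    rw [Over.comp_left]
    exact MorphismProperty.comp_mem _ _ _ hucl (inferInstance : IsClosedImmersion p.left)
  exact isTrivialGrp_of_normal hG (u ≫ p) hcl (NormBc.isNormalHom_comp_iso u p hun) hus huf

/-- If `G` is reductive, `p : P ≅ G` and `l : L ⟶ P` is a Levi subgroup then `L = G` on points. -/
theorem exists_factor_levi (hG : Red.IsReductive G) (p : P ⟶ G) [IsMonHom p] [IsIso p]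
    {l : L ⟶ P} (hl : Par.IsLevi l) {X : Over S} (g : X ⟶ G) : ∃ a : X ⟶ L, a ≫ l ≫ p = g := by
  obtain ⟨_, _, _, U, _, u, hu, hiso⟩ := hl
  have hU : IsIso U.hom := isTrivialGrp_of_isUnipotentRadical hG p hu
  have h := Semi.pr_mul_qr l u (g ≫ inv p)
  have h1 : (g ≫ inv p) ≫ Semi.qr l u = 1 := by
    ext1
    rw [← cancel_mono U.hom, Over.w, Over.w]
  have hum : IsMonHom u := hu.1
  rw [← Category.assoc (g ≫ inv p) (Semi.qr l u) u, h1, MonObj.one_comp, _root_.mul_one] at h
  refine ⟨(g ≫ inv p) ≫ Semi.pr l u, ?_⟩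
  rw [Category.assoc, ← Category.assoc (Semi.pr l u) l p, ← Category.assoc (g ≫ inv p), h,
    Category.assoc, IsIso.inv_hom_id, Category.comp_id]

end Groth.Agent.RedSub.H671.LeviTriv
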